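import Groth.Agent.FrobH1Lib.Main
import Groth.Agent.CohCmpLib.Pull
import Groth.Agent.CohCmpLib.LineBundle
import Groth.Agent.ProjBunLib.Ses

/-!
# Frobenius pullbacks of iterated extensions of the structure sheaf
-/

set_option autoImplicit false
set_option linter.unusedSectionVars false
set_option linter.style.haveILetI false
set_option backward.isDefEq.respectTransparency false
set_option maxHeartbeats 1000000

universe u

open CategoryTheory CategoryTheory.Limits CategoryTheory.Abelian AlgebraicGeometry Opposite TopologicalSpace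
open CohCmpLib KFlatLib
open QCohLib (toAbF)

noncomputable section

namespace FrobH1Lib

variable {X : Scheme.{u}}

/-- A decomposition of a module as a sum of `n` copies of the structure module. -/
structure Frame (A : X.Modules) (n : ℕ) where
  ι : Fin n → (Coh.structureModule X ⟶ A)
  π : Fin n → (A ⟶ Coh.structureModule X)
  ι_π : ∀ i j, ι i ≫ π j = if i = j then 𝟙 _ else 0
  total : ∑ i, π i ≫ ι i = 𝟙 A

/-- A framed module is free. -/
theorem Frame.nonempty_iso {A : X.Modules} {n : ℕ} (F : Frame A n) : Nonempty (A ≅ FlatMod.freeMod X n) := by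
  refine ⟨{ hom := ∑ i, F.π i ≫ Sigma.ι (fun _ : Fin n => Coh.structureModule X) i
            inv := Sigma.desc F.ι
            hom_inv_id := ?_
            inv_hom_id := ?_ }⟩
  · rw [Preadditive.sum_comp]
    simp only [Category.assoc, Sigma.ι_desc]
    exact F.total
  · refine Sigma.hom_ext _ _ fun i => ?_
    rw [Sigma.ι_desc_assoc, Preadditive.comp_sum, Finset.sum_eq_single i]
    · erw [← Category.assoc, F.ι_π, if_pos rfl, Category.id_comp]
    · intro j _ hj
      rw [← Category.assoc, F.ι_π, if_neg (Ne.symm hj), zero_comp]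
    · simp

theorem hm_sum {M N : X.Modules} {α : Type} (s : Finset α) (φ : α → (M ⟶ N)) (q : ℕ) (x : HC X M q) :
    hm (∑ i ∈ s, φ i) q x = ∑ i ∈ s, hm (φ i) q x := by
  classical
  have hadd : ∀ a b : M ⟶ N, hm (a + b) q x = hm a q x + hm b q x := fun a b => by
    refine Eq.trans ?_ (Sheaf.H.map_add_apply _ _ _)
    exact congrArg (fun t => Sheaf.H.map t q (show Coh.HH X M q from x)) (toAbF X).map_add
  induction s using Finset.induction with
  | empty =>
    rw [Finset.sum_empty, Finset.sum_empty]
    simpa using hadd 0 0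
  | @insert a s ha ih => rw [Finset.sum_insert ha, Finset.sum_insert ha, hadd, ih]

/-- The class of the section `1`. -/
def one (X : Scheme.{u}) : HC X (Coh.structureModule X) 0 := (h0E (Coh.structureModule X)).symm (1 : Γ(X, ⊤))

/-- An extension of the structure module by a framed module, all classes of which vanish, is framed. -/
theorem frame_extend {A E : X.Modules} {n : ℕ} (F : Frame A n) (i : A ⟶ E) (q : E ⟶ Coh.structureModule X)
    (w : i ≫ q = 0) (hT : (ShortComplex.mk i q w).ShortExact)
    (hc : ∀ j, hm (F.π j) 1 (hd hT 0 (one X)) = 0) : Nonempty (Frame E (n + 1)) := by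
  have hδ : hd hT 0 (one X) = 0 := by
    rw [← hm_id A 1 (hd hT 0 (one X)), ← F.total, hm_sum]
    exact Finset.sum_eq_zero fun j _ => by rw [hm_comp, hc, map_zero]
  obtain ⟨e, he⟩ : ∃ e, hm q 0 e = one X := AtlasCoh.hExact₃ (QCohLib.toAbF_shortExact hT) 0 (one X) hδ
  let s : Γ(E, ⊤) := h0E E e
  have hs : q.app ⊤ s = (1 : Γ(X, ⊤)) := by
    rw [← h0E_hm, he]
    exact AddEquiv.apply_symm_apply _ _
  let σ : Coh.structureModule X ⟶ E := (SheafOfModules.unitHomEquiv E).symm
    ⟨fun U => E.presheaf.map (homOfLE (le_top (a := U.unop))).op s, fun {U V} g =>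
      QCohLib.map_map' E g.unop (homOfLE (le_top (a := U.unop))) s⟩
  have hσ : σ ≫ q = 𝟙 _ := by
    rw [SheafOfModules.unitHomEquiv_symm_comp, Equiv.symm_apply_eq]
    refine Subtype.ext (funext fun U => ?_)
    refine (QCohLib.app_map q (homOfLE (le_top (a := U.unop))) s).trans ?_
    rw [hs]
    exact map_one (X.presheaf.map (homOfLE (le_top (a := U.unop))).op).hom
  haveI : Mono (ShortComplex.mk i q w).f := hT.mono_f
  haveI : Mono i := ‹_›
  let r : E ⟶ A := hT.exact.lift (𝟙 E - q ≫ σ) (by simp [hσ])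
  have hr : r ≫ i = 𝟙 E - q ≫ σ := hT.exact.lift_f _ _
  have hir : i ≫ r = 𝟙 A := by
    rw [← cancel_mono i, Category.assoc, hr, Category.id_comp, Preadditive.comp_sub, Category.comp_id, ← Category.assoc,
      w, zero_comp, sub_zero]
  have hσr : σ ≫ r = 0 := by
    rw [← cancel_mono i, Category.assoc, hr, zero_comp, Preadditive.comp_sub, Category.comp_id, ← Category.assoc,
      hσ, Category.id_comp, sub_self]
  refine ⟨{ ι := Fin.snoc (fun j => F.ι j ≫ i) σ
            π := Fin.snoc (fun j => r ≫ F.π j) q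
            ι_π := ?_
            total := ?_ }⟩
  · intro a b
    induction a using Fin.lastCases with
    | last =>
      induction b using Fin.lastCases with
      | last => simp [hσ]
      | cast b => simp [← Category.assoc, hσr, (Fin.castSucc_lt_last b).ne']
    | cast a =>
      induction b using Fin.lastCases with
      | last => simp [Category.assoc, w, (Fin.castSucc_lt_last a).ne]
      | cast b =>
        simp only [Fin.snoc_castSucc, Category.assoc, reassoc_of% hir, F.ι_π, Fin.castSucc_inj]
  · rw [Fin.sum_univ_castSucc]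
    simp only [Fin.snoc_castSucc, Fin.snoc_last, Category.assoc]
    rw [← Preadditive.comp_sum]
    simp only [← Category.assoc]
    rw [← Preadditive.sum_comp, F.total]
    simp [hr]

variable (p : ℕ) [Fact p.Prime] [FrobSch.IsCharP X p]

/-- Pullback by the absolute Frobenius. -/
abbrev fp (X : Scheme.{u}) [FrobSch.IsCharP X p] : X.Modules ⥤ X.Modules :=
  Scheme.Modules.pullback (FrobSch.frob X p)

/-- Frobenius pullback of sections, as a map of abelian sheaves. -/
def eta (M : X.Modules) : (toAbF X).obj M ⟶ (toAbF X).obj ((fp p X).obj M) :=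
  ⟨{ app := fun U => AddCommGrpCat.ofHom (AddMonoidHom.mk'
        (fun m : Γ(M, U.unop) => (puSec (FrobSch.frob X p) m : Γ((fp p X).obj M, U.unop)))
        fun a b => map_add (((Scheme.Modules.pullbackPushforwardAdjunction (FrobSch.frob X p)).unit.app M).app U.unop).hom a b)
     naturality := fun U _V g => ConcreteCategory.hom_ext _ _ fun (m : Γ(M, U.unop)) =>
       (QCohLib.app_map ((Scheme.Modules.pullbackPushforwardAdjunction (FrobSch.frob X p)).unit.app M) g.unop m) }⟩

theorem eta_natural {M N : X.Modules} (φ : M ⟶ N) :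
    (toAbF X).map φ ≫ eta p N = eta p M ≫ (toAbF X).map ((fp p X).map φ) :=
  ObjectProperty.hom_ext _ (NatTrans.ext (funext fun U => ConcreteCategory.hom_ext _ _ fun (m : Γ(M, U.unop)) =>
    (puSec_natural (FrobSch.frob X p) φ m).symm))

/-- `F^* O ≅ O`. -/
abbrev eO (X : Scheme.{u}) [FrobSch.IsCharP X p] :
    (fp p X).obj (Coh.structureModule X) ≅ Coh.structureModule X := pullUnitIso (FrobSch.frob X p)

theorem eta_eO : eta p (Coh.structureModule X) ≫ (toAbF X).map (eO p X).hom = W4c5isocrystsimpconn.frobAb X p := by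
  have h := (Scheme.Modules.pullbackPushforwardAdjunction (FrobSch.frob X p)).homEquiv_unit
    (X := Coh.structureModule X) (Y := Coh.structureModule X) (f := (eO p X).hom)
  have h' : (Scheme.Modules.pullbackPushforwardAdjunction (FrobSch.frob X p)).homEquiv _ _ (eO p X).hom =
      SheafOfModules.unitToPushforwardObjUnit (FrobSch.frob X p).toRingCatSheafHom := Equiv.apply_symm_apply _ _
  rw [h'] at h
  refine ObjectProperty.hom_ext _ (NatTrans.ext (funext fun U => ConcreteCategory.hom_ext _ _ fun (m : Γ(X, U.unop)) => ?_))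
  exact (congr(Scheme.Modules.Hom.app $h U.unop m)).symm

/-- One step: Frobenius pullback of an extension of the structure module by a framed module. -/
theorem step {A E : X.Modules} {n : ℕ} (F : Frame A n) (i : A ⟶ E) (q : E ⟶ Coh.structureModule X)
    (w : i ≫ q = 0) (hT : (ShortComplex.mk i q w).ShortExact) :
    ∃ (F' : Frame ((fp p X).obj A) n) (w' : (fp p X).map i ≫ ((fp p X).map q ≫ (eO p X).hom) = 0)
      (hT' : (ShortComplex.mk ((fp p X).map i) ((fp p X).map q ≫ (eO p X).hom) w').ShortExact),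
      ∀ j, hm (F'.π j) 1 (hd hT' 0 (one X)) =
        W4c5isocrystsimpconn.frobH X p 1 (hm (F.π j) 1 (hd hT 0 (one X))) := by
  haveI : (fp p X).Additive := (Scheme.Modules.pullbackPushforwardAdjunction (FrobSch.frob X p)).left_adjoint_additive
  let e := eO p X
  have hd' : ∀ a b, (e.inv ≫ (fp p X).map (F.ι a)) ≫ ((fp p X).map (F.π b) ≫ e.hom) = if a = b then 𝟙 _ else 0 := fun a b => by
    rw [Category.assoc, ← Functor.map_comp_assoc, F.ι_π]
    split_ifs <;> simp
  have ht : ∑ j, ((fp p X).map (F.π j) ≫ e.hom) ≫ e.inv ≫ (fp p X).map (F.ι j) = 𝟙 ((fp p X).obj A) := by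
    rw [← (fp p X).map_id, ← F.total, Functor.map_sum]
    exact Finset.sum_congr rfl fun j _ => by rw [Category.assoc, Iso.hom_inv_id_assoc, ← Functor.map_comp]
  let F' : Frame ((fp p X).obj A) n := ⟨_, _, hd', ht⟩
  have w' : (fp p X).map i ≫ ((fp p X).map q ≫ e.hom) = 0 := by
    rw [← Functor.map_comp_assoc, w, Functor.map_zero, zero_comp]
  have h0 := ProjBunLib.shortExact_pullback (FrobSch.frob X p) hT (r := 1)
    (CohCmpLib.rank_one_structureModule X)
  have hT' : (ShortComplex.mk ((fp p X).map i) ((fp p X).map q ≫ e.hom) w').ShortExact :=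
    ShortComplex.shortExact_of_iso (ShortComplex.isoMk (S₁ := (ShortComplex.mk i q w).map (fp p X))
      (S₂ := ShortComplex.mk ((fp p X).map i) ((fp p X).map q ≫ e.hom) w') (Iso.refl _) (Iso.refl _) e
      (by simp) (by simp)) h0
  let φ : (ShortComplex.mk i q w).map (toAbF X) ⟶
      (ShortComplex.mk ((fp p X).map i) ((fp p X).map q ≫ e.hom) w').map (toAbF X) :=
    ShortComplex.homMk (eta p A) (eta p E) (W4c5isocrystsimpconn.frobAb X p) (eta_natural p i).symm (by
      show eta p E ≫ (toAbF X).map ((fp p X).map q ≫ e.hom) = (toAbF X).map q ≫ W4c5isocrystsimpconn.frobAb X p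
      rw [Functor.map_comp, ← Category.assoc, ← eta_natural, Category.assoc, eta_eO])
  have h1 : Sheaf.H.map (W4c5isocrystsimpconn.frobAb X p) 0 (one X) = one X := by
    apply (h0E (Coh.structureModule X)).injective
    refine (Sheaf.H.equiv₀_naturality isTerminalTop (W4c5isocrystsimpconn.frobAb X p) (one X)).symm.trans ?_
    have h2 : h0E (Coh.structureModule X) (one X) = (1 : Γ(X, ⊤)) := AddEquiv.apply_symm_apply _ _
    show (show Γ(X, ⊤) from h0E (Coh.structureModule X) (one X)) ^ p = (show Γ(X, ⊤) from h0E (Coh.structureModule X) (one X))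
    exact (congrArg (fun t : Γ(X, ⊤) => t ^ p) h2).trans ((one_pow p).trans h2.symm)
  refine ⟨F', w', hT', fun j => ?_⟩
  have hkey : hd hT' 0 (one X) = Sheaf.H.map (eta p A) 1 (hd hT 0 (one X)) := by
    have h3 := hδ_map (QCohLib.toAbF_shortExact hT) (QCohLib.toAbF_shortExact hT') φ 0 (one X)
    refine Eq.trans ?_ h3
    exact congrArg (hd hT' 0) h1.symm
  rw [hkey]
  show Sheaf.H.map ((toAbF X).map ((fp p X).map (F.π j) ≫ e.hom)) 1 (Sheaf.H.map (eta p A) 1 _) =
    Sheaf.H.map (W4c5isocrystsimpconn.frobAb X p) 1 (Sheaf.H.map ((toAbF X).map (F.π j)) 1 _)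
  refine (Sheaf.H.map_comp_apply _ _ _).symm.trans
    ((congrArg (fun t => Sheaf.H.map t 1 (show Coh.HH X A 1 from hd hT 0 (one X))) ?_).trans (Sheaf.H.map_comp_apply _ _ _))
  rw [Functor.map_comp, ← Category.assoc, ← eta_natural, Category.assoc, eta_eO]

theorem steps {A E : X.Modules} {n : ℕ} (k : ℕ) (F : Frame A n) (i : A ⟶ E) (q : E ⟶ Coh.structureModule X)
    (w : i ≫ q = 0) (hT : (ShortComplex.mk i q w).ShortExact) :
    ∃ (F' : Frame (((fp p X).obj)^[k] A) n) (i' : ((fp p X).obj)^[k] A ⟶ ((fp p X).obj)^[k] E)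
      (q' : ((fp p X).obj)^[k] E ⟶ Coh.structureModule X) (w' : i' ≫ q' = 0)
      (hT' : (ShortComplex.mk i' q' w').ShortExact),
      ∀ j, hm (F'.π j) 1 (hd hT' 0 (one X)) =
        (W4c5isocrystsimpconn.frobH X p 1)^[k] (hm (F.π j) 1 (hd hT 0 (one X))) := by
  induction k generalizing A E with
  | zero => exact ⟨F, i, q, w, hT, fun j => rfl⟩
  | succ k ih =>
    obtain ⟨F', w', hT', h⟩ := step p F i q w hT
    obtain ⟨F'', i'', q'', w'', hT'', h'⟩ := ih F' _ _ w' hT'
    exact ⟨F'', i'', q'', w'', hT'', fun j =>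
      (h' j).trans ((congrArg _ (h j)).trans (Function.iterate_succ_apply _ _ _).symm)⟩

/-- Pullback of a short exact sequence with quotient `O`. -/
theorem steps_seq {A E : X.Modules} (k : ℕ) (i : A ⟶ E) (q : E ⟶ Coh.structureModule X)
    (w : i ≫ q = 0) (hT : (ShortComplex.mk i q w).ShortExact) :
    ∃ (i' : ((fp p X).obj)^[k] A ⟶ ((fp p X).obj)^[k] E)
      (q' : ((fp p X).obj)^[k] E ⟶ Coh.structureModule X) (w' : i' ≫ q' = 0),
      (ShortComplex.mk i' q' w').ShortExact := by
  induction k generalizing A E with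
  | zero => exact ⟨i, q, w, hT⟩
  | succ k ih =>
    haveI : (fp p X).Additive := (Scheme.Modules.pullbackPushforwardAdjunction (FrobSch.frob X p)).left_adjoint_additive
    have h0 := ProjBunLib.shortExact_pullback (FrobSch.frob X p) hT (r := 1)
      (CohCmpLib.rank_one_structureModule X)
    have w' : (fp p X).map i ≫ ((fp p X).map q ≫ (eO p X).hom) = 0 := by
      rw [← Functor.map_comp_assoc, w, Functor.map_zero, zero_comp]
    exact ih _ _ w' (ShortComplex.shortExact_of_iso (ShortComplex.isoMk (S₁ := (ShortComplex.mk i q w).map (fp p X))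
      (S₂ := ShortComplex.mk ((fp p X).map i) ((fp p X).map q ≫ (eO p X).hom) w') (Iso.refl _) (Iso.refl _) (eO p X)
      (by simp) (by simp)) h0)

/-- Iterated extensions of the structure module become free. -/
theorem exists_frame (b : ℕ) (hb : ∀ x, (W4c5isocrystsimpconn.frobH X p 1)^[b] x = 0) :
    ∀ (n : ℕ) (E : X.Modules), W4c5isocrystsimpconn.IsIterExt X n E →
      Nonempty (Frame (((fp p X).obj)^[b * (n - 1)] E) n) := by
  intro n
  induction n with
  | zero =>
    intro E hE
    exact ⟨⟨Fin.elim0, Fin.elim0, fun a => a.elim0, by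
      rw [Finset.univ_eq_empty, Finset.sum_empty]
      exact ((hE : IsZero E).eq_of_src _ _)⟩⟩
  | succ n ih =>
    rintro E ⟨E', i, q, w, hE', hT⟩
    obtain ⟨F⟩ := ih E' hE'
    obtain ⟨i₁, q₁, w₁, hT₁⟩ := steps_seq p (b * (n - 1)) i q w hT
    rcases Nat.eq_zero_or_pos n with rfl | hn
    · exact frame_extend F i₁ q₁ w₁ hT₁ fun j => j.elim0
    · obtain ⟨F', i', q', w', hT', h⟩ := steps p b F i₁ q₁ w₁ hT₁
      have := frame_extend F' i' q' w' hT' fun j => by rw [h, hb]
      rw [← Function.iterate_add_apply] at this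
      rwa [show b + b * (n - 1) = b * (n + 1 - 1) by
        obtain ⟨m, rfl⟩ := Nat.exists_eq_add_of_le hn; simp [Nat.mul_add]] at this

end FrobH1Lib
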