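import Groth.Agent.LcRepLib.Kill
import Groth.Agent.EtExtLib.Spec
import Groth.Agent.AsCohLib.Zar
import Groth.Agent.AsCohLib.Seq
import Groth.Agent.CdCharPLib.Dev
import Groth.Agent.LangQLib.Field
import Groth.Agent.S16853
import Groth.Prelude.Def_W4c5isocrystsimpconnFrobH
import Groth.Prelude.Def_Pi1

/-!
# Frobenius on `H¹(X, 𝒪_X)` of a proper scheme without finite étale covers
-/

set_option autoImplicit false
set_option linter.unusedSectionVars false
set_option linter.style.haveILetI false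
set_option backward.isDefEq.respectTransparency false
set_option backward.isDefEq.respectTransparency.types false
set_option maxHeartbeats 1000000
set_option synthInstance.maxHeartbeats 400000

universe u v

open CategoryTheory CategoryTheory.Limits CategoryTheory.Abelian AlgebraicGeometry Opposite TopologicalSpace
open Groth.Agent.EtShLib

noncomputable section

namespace FrobH1Lib

/-- A class in `H¹` of a finite locally constant sheaf vanishes when all finite étale covers split. -/
theorem subsingleton_H1 {X : Scheme.{u}} (hπ : ∀ Y : FEt.Cat X, Pi1.IsSplit Y) (F : EtCoh.Ab X)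
    (hF : LC (fun M : AddCommGrpCat.{u + 1} => Finite M) F) : Subsingleton (EtCoh.H X F 1) := by
  refine subsingleton_of_forall_eq 0 fun ζ => ?_
  obtain ⟨Y', g, _, _, _, hg⟩ := LcRepLib.exists_finite_etale_killing F hF ζ
  haveI := preservesFiniteLimits_pullA (A := AddCommGrpCat.{u + 1}) g
  haveI := preservesFiniteLimits_pullA (A := AddCommGrpCat.{u + 1}) (𝟙 X)
  rcases isEmpty_or_nonempty Y' with hY | ⟨⟨y⟩⟩
  · haveI : IsEmpty X := ⟨fun x => hY.false (g.surjective x).choose⟩
    refine (Groth.Agent.S0642.result g F 1).1 ?_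
    rw [hg, map_zero]
  · obtain ⟨ι, _, e, he⟩ := hπ (MorphismProperty.Over.mk ⊤ g ⟨‹IsFinite g›, ‹AlgebraicGeometry.Etale g›⟩)
    obtain ⟨i, -, -⟩ := DescLib.exists_sigma_mem (e.hom y)
    let s : X ⟶ Y' := Sigma.ι (fun _ : ι => X) i ≫ e.inv
    haveI := preservesFiniteLimits_pullA (A := AddCommGrpCat.{u + 1}) s
    have hs : s ≫ g = 𝟙 X := (Category.assoc _ _ _).trans (he i)
    refine (Groth.Agent.S0642.result (𝟙 X) F 1).1 ?_
    rw [map_zero]
    exact EtExtLib.Hpull_comp_eq_zero s g (𝟙 X) hs F 1 ζ hg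

/-- A semilinear map whose only fixed vector is zero is nilpotent. -/
theorem exists_pow_eq_zero {k : Type u} [Field k] [IsAlgClosed k] (p : ℕ) [hp : Fact p.Prime] [CharP k p]
    {V : Type v} [AddCommGroup V] [Module k V] [FiniteDimensional k V] (Φ : V →+ V)
    (hΦ : ∀ (c : k) (v : V), Φ (c • v) = c ^ p • Φ v) (hfix : ∀ v, Φ v = v → v = 0) :
    ∃ b : ℕ, 0 < b ∧ ∀ v, (⇑Φ)^[b] v = 0 := by
  classical
  have hroot : ∀ (n : ℕ) (c : k), ∃ d : k, d ^ p ^ n = c := fun n c =>
    IsAlgClosed.exists_pow_nat_eq c (pow_pos hp.out.pos n)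
  have hiter : ∀ (n : ℕ) (c : k) (v : V), (⇑Φ)^[n] (c • v) = c ^ p ^ n • (⇑Φ)^[n] v := by
    intro n
    induction n with
    | zero => intro c v; simp
    | succ n ih =>
      intro c v
      rw [Function.iterate_succ_apply', ih, hΦ, ← pow_mul, ← pow_succ, Function.iterate_succ_apply']
  let W : ℕ → Submodule k V := fun n =>
    { carrier := Set.range ((⇑Φ)^[n])
      zero_mem' := ⟨0, by induction n with
        | zero => rfl
        | succ n ih => rw [Function.iterate_succ_apply, map_zero, ih]⟩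
      add_mem' := by
        rintro _ _ ⟨a, rfl⟩ ⟨b, rfl⟩
        exact ⟨a + b, iterate_map_add Φ n a b⟩
      smul_mem' := by
        rintro c _ ⟨a, rfl⟩
        obtain ⟨d, hd⟩ := hroot n c
        exact ⟨d • a, by rw [hiter, hd]⟩ }
  have hanti : Antitone W := antitone_nat_of_succ_le fun n => by
    rintro _ ⟨a, rfl⟩
    exact ⟨Φ a, (Function.iterate_succ_apply Φ n a).symm⟩
  obtain ⟨N, hN⟩ := WellFoundedGT.monotone_chain_condition (α := (Submodule k V)ᵒᵈ)
    ⟨fun n => OrderDual.toDual (W n), fun a b h => hanti h⟩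
  have hN' : W N = W (N + 1) := OrderDual.toDual.injective (hN (N + 1) (Nat.le_succ N))
  have hmem : ∀ v ∈ W N, Φ v ∈ W N := by
    rintro _ ⟨a, rfl⟩
    exact ⟨Φ a, by rw [← Function.iterate_succ_apply, Function.iterate_succ_apply']⟩
  let φ : W N →+ W N :=
    { toFun := fun v => ⟨Φ v, hmem v v.2⟩
      map_zero' := Subtype.ext (map_zero Φ)
      map_add' := fun a b => Subtype.ext (map_add Φ _ _) }
  have hφs : Function.Surjective φ := fun w => by
    obtain ⟨a, ha⟩ : (w : V) ∈ W (N + 1) := hN' ▸ w.2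
    exact ⟨⟨(⇑Φ)^[N] a, a, rfl⟩, Subtype.ext ((Function.iterate_succ_apply' Φ N a).symm.trans ha)⟩
  have hφ : ∀ (c : k) (v : W N), φ (c • v) = c ^ p ^ 1 • φ v := fun c v => Subtype.ext (by
    show Φ (c • (v : V)) = c ^ p ^ 1 • Φ v
    rw [pow_one, hΦ])
  have hφi : Function.Injective φ := by
    let b := Module.finBasis k (W N)
    choose w hw using fun i => hφs (b i)
    have key : ∀ a : Fin _ → k, φ (∑ i, a i • w i) = ∑ i, a i ^ p • b i := fun a => by
      rw [map_sum]
      exact Finset.sum_congr rfl fun i _ => by rw [hφ, pow_one, hw]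
    have hli : LinearIndependent k w := Fintype.linearIndependent_iff.2 fun a ha i => by
      have := key a
      rw [ha, map_zero] at this
      exact pow_eq_zero_iff hp.out.pos.ne' |>.1 (Fintype.linearIndependent_iff.1 b.linearIndependent _ this.symm i)
    have hsp : Submodule.span k (Set.range w) = ⊤ := hli.span_eq_top_of_card_eq_finrank' (by simp)
    refine (injective_iff_map_eq_zero φ).2 fun v hv => ?_
    obtain ⟨a, rfl⟩ := (Submodule.mem_span_range_iff_exists_fun k).1 (hsp.ge (Submodule.mem_top (x := v)))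
    rw [key] at hv
    refine Finset.sum_eq_zero fun i _ => ?_
    rw [pow_eq_zero_iff hp.out.pos.ne' |>.1 (Fintype.linearIndependent_iff.1 b.linearIndependent _ hv i), zero_smul]
  obtain ⟨ι, b, hb⟩ := Groth.Agent.S16853.result k p 1 le_rfl (W N) φ hφ ⟨hφi, hφs⟩
  have hbot : ∀ v ∈ W N, v = 0 := fun v hv => by
    have hz : ∀ i, b i = 0 := fun i => Subtype.ext (hfix _ (congrArg Subtype.val (hb i)))
    have : (⟨v, hv⟩ : W N) = 0 := b.ext_elem fun i => absurd (hz i) (b.ne_zero i)
    exact congrArg Subtype.val this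
  refine ⟨N + 1, Nat.succ_pos N, fun v => hbot _ ?_⟩
  exact hN' ▸ (⟨v, rfl⟩ : (⇑Φ)^[N + 1] v ∈ W (N + 1))

/-- Frobenius is nilpotent on `H¹(X, 𝒪_X)` when all finite étale covers split. -/
theorem main (p : ℕ) [hp : Fact p.Prime] (k : Type u) [Field k] [IsAlgClosed k] [CharP k p]
    (X : Scheme.{u}) [X.Over (Spec (CommRingCat.of k))] [IsProper (X ↘ Spec (CommRingCat.of k))]
    [FrobSch.IsCharP X p] (hπ : ∀ Y : FEt.Cat X, Pi1.IsSplit Y) :
    ∃ b : ℕ, 0 < b ∧ ∀ x : Coh.HH X (Coh.structureModule X) 1,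
      (W4c5isocrystsimpconn.frobH X p 1)^[b] x = 0 := by
  have h0 : (p : Γ(X, ⊤)) = 0 := FrobSch.natCast_eq_zero_app X p ⊤
  let f := X ↘ Spec (CommRingCat.of k)
  haveI : EtZar.ZarCont X := EtZarLib.zarCont X
  obtain ⟨e, he⟩ := AsCohLib.exists_equiv_as p h0 1
  haveI : Module.Finite k (Coh.HH X (Coh.structureModule X) 1) :=
    CurvLib.finite_HH (DevissLib.isCoh_structureModule X) 1
  have hF : W4c5isocrystsimpconn.frobAb X p = AsCohLib.frobZ p h0 := by
    refine ObjectProperty.hom_ext _ (NatTrans.ext (funext fun U => ConcreteCategory.hom_ext _ _ fun (x : X.presheaf.obj U) => ?_))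
    show x ^ p = x ^ p - x + x
    rw [sub_add_cancel]
  have hlin : ∀ (c : k) (v : Coh.HH X (Coh.structureModule X) 1),
      W4c5isocrystsimpconn.frobH X p 1 (c • v) = c ^ p • W4c5isocrystsimpconn.frobH X p 1 v := fun c v => by
    rw [W4c5isocrystsimpconn.frobH, hF]
    show Sheaf.H.map (AsCohLib.frobZ p h0) 1 (Sheaf.H.map (Coh.smulAb _ (Coh.toGlobal f c)) 1 v) =
      Sheaf.H.map (Coh.smulAb _ (Coh.toGlobal f (c ^ p))) 1 (Sheaf.H.map (AsCohLib.frobZ p h0) 1 v)
    rw [map_pow, ← Sheaf.H.map_comp_apply, ← Sheaf.H.map_comp_apply, AsCohLib.smul_frobZ]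
  refine exists_pow_eq_zero p _ hlin fun v hv => ?_
  have hz : Sheaf.H.map (AsCohLib.asZ p h0) 1 v = 0 := by
    have h1 : Sheaf.H.map (AsCohLib.asZ p h0 + 𝟙 _) 1 v = v := by
      rw [W4c5isocrystsimpconn.frobH, hF] at hv
      exact hv
    rwa [Sheaf.H.map_add_apply, Sheaf.H.map_id_apply, add_eq_right] at h1
  obtain ⟨φ, w, hS⟩ := CdOneLib.kernel_artinSchreier_seq p h0
  obtain ⟨z, hz'⟩ := Ext.covariant_sequence_exact₂ _ hS (e.symm v)
    (show Sheaf.H.map (W4c5etcohweilstudent.artinSchreierEndo X p hp.out h0) 1 (e.symm v) = 0 from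
      e.injective (by rw [he, AddEquiv.apply_symm_apply, hz, map_zero]))
  haveI := subsingleton_H1 hπ _ (CdCharPLib.lc_const (T := X) (ZMod p))
  have hz0 : e.symm v = 0 := by
    rw [← hz', show z = 0 from Subsingleton.elim (α := EtCoh.H X (EtCoh.const X (ZMod p)) 1) z 0, Ext.zero_comp]
  simpa using congrArg e hz0

end FrobH1Lib
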